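import Mathlib
import Cfsg.Agent.H569.Ccp.Tools
import Cfsg.Agent.H520.ReeT
import Cfsg.Agent.H71.FldAut
import Cfsg.Agent.H415.CopReeRow
import Cfsg.Agent.S1156
import Cfsg.Agent.S1069
import Cfsg.Agent.Lib.FieldAutCard

/-!
# S4114: the row of the small Ree groups (helper569)

* `invol_false` : `α` fixes no involution;
* `row_ree`.
-/

set_option autoImplicit false
set_option linter.unusedSectionVars false

namespace Cfsg.Agent.H569.Ccp

open Cfsg Subgroup Cfsg.Agent.H566 Cfsg.Agent.H520 Cfsg.Agent.Walter Cfsg.Agent.Walter.Types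
  Cfsg.Agent.CpAutRee.Ree Cfsg.Lie

universe u

/-- A solvable normal subgroup of `2 × L`, `L` nonabelian simple. -/
theorem mem_of_solv_normal {M L : Type*} [Group M] [Group L] [IsSimpleGroup L] (hL : ∃ a b : L, a * b ≠ b * a)
    (e : M ≃* Multiplicative (ZMod 2) × L) {N : Subgroup M} (hN : N.Normal) (hs : Group.IsSolvable ↥N) {x : M}
    (hx : x ∈ N) : (e x).2 = 1 := by
  let f : M →* L := (MonoidHom.snd _ _).comp e.toMonoidHom
  have hf : Function.Surjective f := by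
    intro l
    refine ⟨e.symm (1, l), ?_⟩
    show (e (e.symm (1, l))).2 = l
    rw [e.apply_symm_apply]
  have h1 : (N.map f).Normal := hN.map f hf
  have h2 : Group.IsSolvable ↥(N.map f) :=
    Group.isSolvable_of_surjective (f := f.subgroupMap N) (f.subgroupMap_surjective N)
  rcases h1.eq_bot_or_eq_top with h3 | h3
  · have h4 : f x ∈ N.map f := ⟨x, hx, rfl⟩
    rw [h3, mem_bot] at h4
    exact h4
  · exfalso
    rw [h3] at h2
    have h5 : Group.IsSolvable L :=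
      Group.isSolvable_of_surjective (f := (⊤ : Subgroup L).subtype) (fun l => ⟨⟨l, mem_top l⟩, rfl⟩)
    obtain ⟨a, b, hab⟩ := hL
    exact hab ((IsSimpleGroup.comm_iff_isSolvable.2 h5) a b)

theorem two_el : ∀ z : Multiplicative (ZMod 2), z = 1 ∨ z = Multiplicative.ofAdd 1 := by decide

section

variable {K : Type} [Field K] [Fintype K] {m : ℕ}

/-- **`α` fixes no involution.** -/
theorem invol_false (hm : 1 ≤ m) (hK : Fintype.card K = 3 ^ (2 * m + 1))
    {α : MulAut ↥(Cfsg.Lie.twistedG2 K (3 ^ m))} (h : Cfg α) {s : ↥(Cfsg.Lie.twistedG2 K (3 ^ m))}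
    (hso : orderOf s = 2) (hsα : α s = s) : False := by
  classical
  have h2 : Fact (Nat.Prime 2) := ⟨Nat.prime_two⟩
  obtain ⟨hsimp, hc⟩ := Cfsg.Agent.S1073.result hm hK
  have hna : ∃ a b : ↥(Cfsg.Lie.twistedG2 K (3 ^ m)), a * b ≠ b * a := by
    by_contra hcon
    push Not at hcon
    exact hc ⟨⟨hcon⟩⟩
  obtain ⟨a, haH, ha1, ha2⟩ := Cfsg.Agent.S1157.exists_involution hK
  obtain ⟨⟨e⟩, hS⟩ := Cfsg.Agent.S1152.result hK a haH ha1 ha2
  have hao : orderOf a = 2 := orderOf_eq_prime (by rw [sq, ha2]) ha1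
  have hq8 := pow_mod_eight m
  have hq27 : 27 ≤ 3 ^ (2 * m + 1) := by
    calc 27 = 3 ^ 3 := by norm_num
      _ ≤ 3 ^ (2 * m + 1) := Nat.pow_le_pow_right (by norm_num) (by omega)
  have hJ : IsJR ↥(Cfsg.Lie.twistedG2 K (3 ^ m)) := by
    refine ⟨⟨default, hS default⟩, K, inferInstance, inferInstance, Or.inl (by rw [hK, hq8]), by rw [hK]; omega, ?_⟩
    intro t ht
    obtain ⟨g, rfl⟩ := exists_conj hna hS hao ht
    obtain ⟨f⟩ := cent_conj a g
    exact ⟨f.symm.trans e⟩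
  have hB : AutFacts.Bender ↥(Cfsg.Lie.twistedG2 K (3 ^ m)) := fun M hM => Cfsg.Agent.S0222.result hna M hM
  have hs1 : s ≠ 1 := by
    rintro rfl
    rw [orderOf_one] at hso
    omega
  -- a Sylow `2`-subgroup containing `s`
  obtain ⟨P, hsP⟩ : ∃ P : Sylow 2 ↥(Cfsg.Lie.twistedG2 K (3 ^ m)), s ∈ (P : Subgroup _) := by
    have h3 : IsPGroup 2 ↥(zpowers s) := IsPGroup.of_card (n := 1) (by rw [Nat.card_zpowers, hso, pow_one])
    obtain ⟨Q, hQ⟩ := h3.exists_le_sylow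
    exact ⟨Q, hQ (mem_zpowers s)⟩
  obtain ⟨f1, f2, f3⟩ := PSLFacts.IsJR.facts hJ P
  obtain ⟨g, hg⟩ := exists_conj hna hS hao hso
  obtain ⟨f⟩ := cent_conj a g
  rw [hg] at f
  have hPs : IsSimpleGroup (Matrix.ProjectiveSpecialLinearGroup (Fin 2) K) :=
    TwoFusion.SLTwoFacts.isSimpleGroup_psl (by rw [hK]; omega)
  have hLna : ∃ a b : Matrix.ProjectiveSpecialLinearGroup (Fin 2) K, a * b ≠ b * a := by
    by_contra hcon
    push Not at hcon
    exact GTwoRows.not_comm_psl (F := K) (by rw [hK]; omega) ⟨⟨hcon⟩⟩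
  let E := f.symm.trans e
  set M := centralizer ({s} : Set ↥(Cfsg.Lie.twistedG2 K (3 ^ m))) with hMdef
  have hne : M ≠ ⊤ := by
    intro h3
    have h4 : s ∈ center ↥(Cfsg.Lie.twistedG2 K (3 ^ m)) := by
      rw [mem_center_iff]
      intro x
      exact mem_centralizer_singleton_iff.1 (by rw [← hMdef, h3]; trivial)
    rw [h.center_bot, mem_bot] at h4
    exact hs1 h4
  have hMα : ∀ x ∈ M, α x ∈ M := by
    intro x hx
    rw [hMdef, mem_centralizer_singleton_iff] at hx ⊢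
    have h3 := congrArg α hx
    rw [map_mul, map_mul, hsα] at h3
    exact h3
  have hsM : s ∈ M := by
    rw [hMdef, mem_centralizer_singleton_iff]
  -- `[M, α] ≤ ⟨s⟩`
  have hkey : ∀ x ∈ M, x⁻¹ * α x = 1 ∨ x⁻¹ * α x = s := by
    intro x hx
    have h3 : Group.IsSolvable ↥(cG (resA α M hMα)) := by
      rw [← solvable_cM_iff α M hMα]
      exact h.min M hne hMα
    have h4 := mem_of_solv_normal hLna E (cG_normal (resA α M hMα)) h3 (mem_cG (resA α M hMα) ⟨x, hx⟩)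
    -- the image of `s`
    have h5 : (E ⟨s, hsM⟩).2 = 1 := by
      have h6 : (zpowers (⟨s, hsM⟩ : ↥M)).Normal := by
        constructor
        rintro _ ⟨i, rfl⟩ y
        refine ⟨i, ?_⟩
        have h7 : Commute y (⟨s, hsM⟩ : ↥M) := by
          apply Subtype.ext
          exact mem_centralizer_singleton_iff.1 y.2
        show (⟨s, hsM⟩ : ↥M) ^ i = y * (⟨s, hsM⟩ : ↥M) ^ i * y⁻¹
        rw [(h7.zpow_right i).eq]
        group
      have h7 : Group.IsSolvable ↥(zpowers (⟨s, hsM⟩ : ↥M)) :=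
        Group.isSolvable_of_comm fun a b => by
          obtain ⟨_, i, rfl⟩ := a
          obtain ⟨_, j, rfl⟩ := b
          apply Subtype.ext
          exact ((Commute.refl (⟨s, hsM⟩ : ↥M)).zpow_zpow i j).eq
      exact mem_of_solv_normal hLna E h6 h7 (mem_zpowers _)
    have h6 : ∀ z : Multiplicative (ZMod 2), z = 1 ∨ z = Multiplicative.ofAdd 1 := two_el
    have h7 : (E ⟨s, hsM⟩).1 = Multiplicative.ofAdd 1 := by
      rcases h6 (E ⟨s, hsM⟩).1 with h7 | h7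
      · exfalso
        apply hs1
        have h8 : E ⟨s, hsM⟩ = 1 := Prod.ext h7 h5
        have h9 : (⟨s, hsM⟩ : ↥M) = 1 := E.injective (by rw [h8, map_one])
        exact congrArg Subtype.val h9
      · exact h7
    set w : ↥M := (⟨x, hx⟩ : ↥M)⁻¹ * resA α M hMα ⟨x, hx⟩ with hw
    have hwv : (w : ↥(Cfsg.Lie.twistedG2 K (3 ^ m))) = x⁻¹ * α x := rfl
    rcases h6 (E w).1 with h8 | h8
    · left
      have h9 : E w = 1 := Prod.ext h8 h4
      have h10 : w = 1 := E.injective (by rw [h9, map_one])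
      rw [← hwv, h10]
      rfl
    · right
      have h9 : E w = E ⟨s, hsM⟩ := Prod.ext (by rw [h8, h7]) (by rw [h4, h5])
      have h10 := E.injective h9
      rw [← hwv, h10]
  have hsq : ∀ x ∈ M, α (α x) = x := by
    intro x hx
    rcases hkey x hx with h3 | h3
    · have h4 : α x = x := (inv_mul_eq_one.1 h3).symm
      rw [h4, h4]
    · have h4 : α x = x * s := by rw [← h3]; group
      have h5 : s * s = 1 := by rw [← sq, ← hso, pow_orderOf_eq_one]
      rw [h4, map_mul, h4, hsα, mul_assoc, h5, mul_one]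
  -- the odd part of `α`
  obtain ⟨x, z, hx, hz, hα, hx2, hz2, -⟩ := exists_ppart α 2
  have hodd : Odd (orderOf z) := by
    rw [← Nat.not_even_iff_odd, even_iff_two_dvd]
    exact hz2
  have hzfix : ∀ y ∈ M, z y = y := by
    -- `z` is a power of `z ^ 2`, which is a power of `α ^ 2`
    have h3 : ∀ i : ℤ, ∀ y ∈ M, ((α ^ 2) ^ i : MulAut _) y = y := by
      intro i y hy
      have h4 : zpowers (α ^ 2) ≤ (MulAction.stabilizer (MulAut ↥(Cfsg.Lie.twistedG2 K (3 ^ m))) y) := by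
        rw [zpowers_le]
        show (α ^ 2) y = y
        rw [pow_two]
        exact hsq y hy
      exact h4 ⟨i, rfl⟩
    intro y hy
    obtain ⟨k, hk⟩ := hodd
    obtain ⟨i, hi⟩ := hz
    have hi' : α ^ i = z := hi
    have h5 : z = z ^ (2 * (k + 1)) := by
      have h6 : z ^ (2 * (k + 1)) = z ^ (orderOf z) * z := by
        rw [hk, ← pow_succ]
        congr 1
      rw [h6, pow_orderOf_eq_one, one_mul]
    have h7 : z = (α ^ 2) ^ (i * (k + 1 : ℕ)) := by
      nth_rw 1 [h5]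
      rw [← hi', ← zpow_natCast, ← zpow_natCast α 2, ← zpow_mul, ← zpow_mul]
      congr 1
      push_cast
      ring
    rw [h7]
    exact h3 _ y hy
  have hz1 : z = 1 := AutFacts.aut_eq_one hB hna P f1 (by rw [f2]; norm_num) f3 hsP hs1 z hodd hzfix
  rw [hz1, one_mul] at hα
  obtain ⟨k, hk⟩ := hx2
  have h2G : 2 ∣ Nat.card ↥(Cfsg.Lie.twistedG2 K (3 ^ m)) := by
    rw [← hso]
    exact orderOf_dvd_natCard s
  exact h.not_primepow h2G k (by rw [hα, hk])

/-- A field automorphism which is inner is trivial. -/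
theorem fld_eq_one (hK : Fintype.card K = 3 ^ (2 * m + 1)) {τ : K ≃+* K}
    {g : ↥(Cfsg.Lie.twistedG2 K (3 ^ m))} (hg : MulAut.conj g = S2127.fld τ (3 ^ m)) : τ = 1 := by
  obtain ⟨θ, c⟩ := Cfsg.Agent.ChevalleyStructure.Ree.Normal.exists_ctx hK
  have hfin : Finite ↥(twistedG2 K (3 ^ m)) := LieRecognition.ReeSylowThree.finite (ChevalleyStructure.Ree.Data.data c)
  have F := H71.FldAut.reeFld c
  have h1 : MulAut.conj g ∈ H71.ReeOut.Fr (ChevalleyStructure.Ree.Data.data c) := by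
    rw [hg]
    exact F.mem τ
  obtain ⟨a, ha⟩ := (H71.ReeOut.conj_mem_iff _ g).1 h1
  have e : ∀ t, (MulAut.conj g) (ChevalleyStructure.Ree.Data.U K (3 ^ m) t 0 0) =
      (S2127.fld τ (3 ^ m)) (ChevalleyStructure.Ree.Data.U K (3 ^ m) t 0 0) := by
    intro t
    rw [hg]
  have e0 : ∀ t, (a : K) ^ (3 ^ (m + 1)) * t = τ t := by
    intro t
    have h2 := e t
    rw [F.onU, MulAut.conj_apply, ha, H71.ReeOut.h_U_inv (ChevalleyStructure.Ree.Data.data c)] at h2
    exact (LieRecognition.ReeSylowThree.U_injective (ChevalleyStructure.Ree.Data.data c) h2).1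
  have e1 := e0 1
  rw [map_one, mul_one] at e1
  ext t
  rw [← e0 t, e1, one_mul]
  rfl

/-- the field automorphisms -/
noncomputable abbrev Phi (K : Type) [Field K] (m : ℕ) : (K ≃+* K) →* MulAut ↥(Cfsg.Lie.twistedG2 K (3 ^ m)) :=
  H967.CopMat.fieldAut (H967.CopSz.stab_g2 (3 ^ m))

theorem phi_range (hK : Fintype.card K = 3 ^ (2 * m + 1)) {τ : K ≃+* K}
    (h : Phi K m τ ∈ (MulAut.conj : ↥(Cfsg.Lie.twistedG2 K (3 ^ m)) →* _).range) : τ = 1 := by
  obtain ⟨g, hg⟩ := h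
  exact fld_eq_one hK (g := g) hg

theorem exists_form (hm : 1 ≤ m) (hK : Fintype.card K = 3 ^ (2 * m + 1))
    (y : MulAut ↥(Cfsg.Lie.twistedG2 K (3 ^ m))) : ∃ (g : ↥(Cfsg.Lie.twistedG2 K (3 ^ m))) (τ : K ≃+* K),
      y = MulAut.conj g * Phi K m τ := by
  obtain ⟨g, τ, h⟩ := H71.FldAut.ree_aut hm hK y
  exact ⟨g, τ, h⟩

theorem tau_pow (hK : Fintype.card K = 3 ^ (2 * m + 1)) {g : ↥(Cfsg.Lie.twistedG2 K (3 ^ m))} {τ : K ≃+* K}
    {p : ℕ} (h : (MulAut.conj g * Phi K m τ) ^ p = 1) : τ ^ p = 1 := by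
  apply phi_range (m := m) hK
  rw [conj_mul_pow, ← map_pow] at h
  rw [eq_inv_of_mul_eq_one_right h, ← map_inv]
  exact ⟨_, rfl⟩

/-! ### The fixed points of a field automorphism -/

theorem mul_dvd_pow_sub {p : ℕ} {a : ℤ} (h : (p : ℤ) ∣ a - 1) : (p : ℤ) * (a - 1) ∣ a ^ p - 1 := by
  rw [← mul_geom_sum, mul_comm (p : ℤ)]
  apply mul_dvd_mul_left
  have h1 : ∀ N : ℕ, (p : ℤ) ∣ ∑ i ∈ Finset.range N, a ^ i - N := by
    intro N
    induction N with
    | zero => simp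
    | succ N ih =>
      rw [Finset.sum_range_succ]
      have h2 : (p : ℤ) ∣ a ^ N - 1 := h.trans (sub_one_dvd_pow_sub_one a N)
      have h3 := dvd_add ih h2
      have h4 : ∑ x ∈ Finset.range N, a ^ x + a ^ N - ((N + 1 : ℕ) : ℤ) =
          ∑ i ∈ Finset.range N, a ^ i - (N : ℤ) + (a ^ N - 1) := by
        push_cast
        ring
      rw [h4]
      exact h3
  have := dvd_add (h1 p) (dvd_refl (p : ℤ))
  rwa [sub_add_cancel] at this

/-- `p |²G₂(q₁)|` divides `|²G₂(q₁ᵖ)|` if `p` divides the latter. -/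
theorem card_dvd_aux {p Q : ℕ} (hp : p.Prime) (hp3 : 3 < p) (hQ : 1 ≤ Q) (hQ3 : ¬ p ∣ Q)
    (h : p ∣ (Q ^ p) ^ 3 * (Q ^ p - 1) * ((Q ^ p) ^ 3 + 1)) :
    p * (Q ^ 3 * (Q - 1) * (Q ^ 3 + 1)) ∣ (Q ^ p) ^ 3 * (Q ^ p - 1) * ((Q ^ p) ^ 3 + 1) := by
  have hfact : Fact p.Prime := ⟨hp⟩
  have hQp : 1 ≤ Q ^ p := Nat.one_le_pow _ _ hQ
  have hodd : Odd p := hp.odd_of_ne_two (by omega)
  zify [hQ, hQp] at h ⊢
  have hfer : ∀ a : ℤ, (p : ℤ) ∣ a ^ p - 1 → (p : ℤ) ∣ a - 1 := by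
    intro a h1
    have h6 : (p : ℤ) ∣ a ^ p - a := by
      have h7 : ((a ^ p - a : ℤ) : ZMod p) = 0 := by
        push_cast
        rw [ZMod.pow_card, sub_self]
      exact (ZMod.intCast_zmod_eq_zero_iff_dvd _ _).1 h7
    have := dvd_sub h1 h6
    rwa [show a ^ p - 1 - (a ^ p - a) = a - 1 by ring] at this
  have hpz : Prime (p : ℤ) := Nat.prime_iff_prime_int.1 hp
  have d1 : (Q : ℤ) ^ 3 ∣ ((Q : ℤ) ^ p) ^ 3 := pow_dvd_pow_of_dvd (dvd_pow_self _ hp.ne_zero) 3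
  have d2 : (Q : ℤ) - 1 ∣ (Q : ℤ) ^ p - 1 := sub_one_dvd_pow_sub_one _ p
  have e3 : -(-(Q : ℤ) ^ 3 - 1) = (Q : ℤ) ^ 3 + 1 := by ring
  have e4 : -((-(Q : ℤ) ^ 3) ^ p - 1) = ((Q : ℤ) ^ p) ^ 3 + 1 := by
    rw [hodd.neg_pow]
    ring
  have d3 : (Q : ℤ) ^ 3 + 1 ∣ ((Q : ℤ) ^ p) ^ 3 + 1 := by
    rw [← e3, ← e4, neg_dvd, dvd_neg]
    exact sub_one_dvd_pow_sub_one _ p
  rcases hpz.dvd_or_dvd h with h1 | h1
  · rcases hpz.dvd_or_dvd h1 with h2 | h2
    · exfalso
      have h3 := hpz.dvd_of_dvd_pow (hpz.dvd_of_dvd_pow h2)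
      exact hQ3 (by exact_mod_cast h3)
    · have h3 := mul_dvd_pow_sub (hfer _ h2)
      have h4 := mul_dvd_mul (mul_dvd_mul d1 h3) d3
      refine (dvd_of_eq ?_).trans h4
      ring
  · have h2 : (p : ℤ) ∣ (-(Q : ℤ) ^ 3) ^ p - 1 := by
      rw [← dvd_neg, e4]
      exact h1
    have h3 := mul_dvd_pow_sub (hfer _ h2)
    have h3' : (p : ℤ) * ((Q : ℤ) ^ 3 + 1) ∣ ((Q : ℤ) ^ p) ^ 3 + 1 := by
      rw [← e3, ← e4, mul_neg, neg_dvd, dvd_neg]
      exact h3
    have h4 := mul_dvd_mul (mul_dvd_mul d1 d2) h3'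
    refine (dvd_of_eq ?_).trans h4
    ring

/-- the data of the fixed field -/
theorem fix_data (hK : Fintype.card K = 3 ^ (2 * m + 1)) (τ : K ≃+* K) :
    ∃ m₀ : ℕ, Nat.card ↥(H967.CopMat.Fx τ) = 3 ^ (2 * m₀ + 1) ∧ 3 ^ (2 * m + 1) = (3 ^ (2 * m₀ + 1)) ^ orderOf τ ∧
      ∃ f : ↥(Cfsg.Lie.twistedG2 ↥(H967.CopMat.Fx τ) (3 ^ m₀)) →* ↥(Cfsg.Lie.twistedG2 K (3 ^ m)),
        Function.Injective f ∧ fixA (Phi K m τ) = f.range := by
  obtain ⟨θ, c⟩ := Cfsg.Agent.ChevalleyStructure.Ree.Normal.exists_ctx hK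
  have hcard := H967.CopMat.card_Fx τ
  rw [Nat.card_eq_fintype_card, hK] at hcard
  obtain ⟨m₀, j, h1, h2⟩ := H967.CopFix.exists_odd_exp Nat.prime_three hcard
  have : Fintype ↥(H967.CopMat.Fx τ) := Fintype.ofFinite _
  have hE : Fintype.card ↥(H967.CopMat.Fx τ) = 3 ^ (2 * m₀ + 1) := by rw [← Nat.card_eq_fintype_card, h1]
  obtain ⟨θ₀, c₀⟩ := Cfsg.Agent.ChevalleyStructure.Ree.Normal.exists_ctx hE
  have hpow : ∀ x : ↥(H967.CopMat.Fx τ), x ^ 3 ^ m = x ^ 3 ^ m₀ := H967.CopFix.pow_eq h1 h2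
  refine ⟨m₀, h1, ?_, H415.CopReeRow.emb (H967.CopMat.Fx τ).subtype hpow, H415.CopReeRow.emb_injective _ hpow, ?_⟩
  · rw [hcard, h1]
  · exact H415.CopReeRow.fx_eq τ c c₀ hpow

theorem not_le_fix (hK : Fintype.card K = 3 ^ (2 * m + 1)) {p : ℕ} [hp : Fact p.Prime] (hp3 : 3 < p)
    {τ : K ≃+* K} (hτ : orderOf τ = p) (hpG : p ∣ Nat.card ↥(Cfsg.Lie.twistedG2 K (3 ^ m)))
    (P : Sylow p ↥(Cfsg.Lie.twistedG2 K (3 ^ m))) : ¬ (P : Subgroup _) ≤ fixA (Phi K m τ) := by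
  intro hle
  obtain ⟨θ, c⟩ := Cfsg.Agent.ChevalleyStructure.Ree.Normal.exists_ctx hK
  have hfin : Finite ↥(twistedG2 K (3 ^ m)) := LieRecognition.ReeSylowThree.finite (ChevalleyStructure.Ree.Data.data c)
  obtain ⟨m₀, h1, h2, f, hf, hfx⟩ := fix_data hK τ
  have : Fintype ↥(H967.CopMat.Fx τ) := Fintype.ofFinite _
  have hE : Fintype.card ↥(H967.CopMat.Fx τ) = 3 ^ (2 * m₀ + 1) := by rw [← Nat.card_eq_fintype_card, h1]
  have hC : Nat.card ↥(fixA (Phi K m τ)) = (3 ^ (2 * m₀ + 1)) ^ 3 * (3 ^ (2 * m₀ + 1) - 1) *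
      ((3 ^ (2 * m₀ + 1)) ^ 3 + 1) := by
    rw [← Cfsg.Agent.S1069.result hE, hfx]
    exact (Nat.card_congr (MonoidHom.ofInjective hf).toEquiv).symm
  have hG := Cfsg.Agent.S1069.result hK
  rw [hτ] at h2
  have h3 : p * Nat.card ↥(fixA (Phi K m τ)) ∣ Nat.card ↥(Cfsg.Lie.twistedG2 K (3 ^ m)) := by
    rw [hC]
    rw [hG, h2] at hpG
    rw [hG, h2]
    refine card_dvd_aux hp.out hp3 (Nat.one_le_pow _ _ (by norm_num)) ?_ hpG
    intro h4
    have h5 := (Nat.prime_dvd_prime_iff_eq hp.out Nat.prime_three).1 (hp.out.dvd_of_dvd_pow h4)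
    omega
  have h4 : p * Nat.card ↥(P : Subgroup ↥(Cfsg.Lie.twistedG2 K (3 ^ m))) ∣ Nat.card ↥(Cfsg.Lie.twistedG2 K (3 ^ m)) :=
    (Nat.mul_dvd_mul_left p (card_dvd_of_le hle)).trans h3
  rw [← (P : Subgroup ↥(Cfsg.Lie.twistedG2 K (3 ^ m))).card_mul_index, mul_comm] at h4
  exact P.not_dvd_index (Nat.dvd_of_mul_dvd_mul_left Nat.card_pos h4)

theorem fix_not_solvable (hK : Fintype.card K = 3 ^ (2 * m + 1)) (τ : K ≃+* K) :
    ¬ Group.IsSolvable ↥(fixA (Phi K m τ)) := by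
  intro hs
  obtain ⟨m₀, h1, h2, f, hf, hfx⟩ := fix_data hK τ
  have : Fintype ↥(H967.CopMat.Fx τ) := Fintype.ofFinite _
  have hE : Fintype.card ↥(H967.CopMat.Fx τ) = 3 ^ (2 * m₀ + 1) := by rw [← Nat.card_eq_fintype_card, h1]
  rw [hfx] at hs
  have hs' : Group.IsSolvable ↥(Cfsg.Lie.twistedG2 ↥(H967.CopMat.Fx τ) (3 ^ m₀)) :=
    Group.isSolvable_of_isSolvable_injective (f := f.rangeRestrict) (fun a b hab => hf (congrArg Subtype.val hab))
  rcases Nat.eq_zero_or_pos m₀ with h0 | h0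
  · subst h0
    obtain ⟨-, h3, h4⟩ := H415.CopReeRow.three_facts hE
    have h5 : Group.IsSolvable ↥(commutator ↥(Cfsg.Lie.twistedG2 ↥(H967.CopMat.Fx τ) (3 ^ 0))) :=
      Group.isSolvable_of_isSolvable_injective (f := Subgroup.subtype _) (subtype_injective _)
    exact h4 ⟨⟨fun a b => (IsSimpleGroup.comm_iff_isSolvable.2 h5) a b⟩⟩
  · obtain ⟨h3, h4⟩ := Cfsg.Agent.S1073.result h0 hE
    exact h4 ⟨⟨fun a b => (IsSimpleGroup.comm_iff_isSolvable.2 hs') a b⟩⟩

/-- **The row.** -/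
theorem row_twistedG2 (hm : 1 ≤ m) (hK : Fintype.card K = 3 ^ (2 * m + 1)) : Row ↥(Cfsg.Lie.twistedG2 K (3 ^ m)) := by
  intro α h
  obtain ⟨θ, c⟩ := Cfsg.Agent.ChevalleyStructure.Ree.Normal.exists_ctx hK
  have hfin : Finite ↥(twistedG2 K (3 ^ m)) := LieRecognition.ReeSylowThree.finite (ChevalleyStructure.Ree.Data.data c)
  have hz := h.center_bot
  have hgal : Nat.card (K ≃+* K) = 2 * m + 1 := Cfsg.Agent.Lib.FieldAutCard.card_ringAut (by omega) hK
  have hfinK : Finite (K ≃+* K) := Nat.finite_of_card_ne_zero (by rw [hgal]; omega)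
  -- an involution fixed by `α` from an even order
  have hinv : ¬ 2 ∣ Nat.card ↥(fixA α) := by
    intro h1
    have h2 : Fact (Nat.Prime 2) := ⟨Nat.prime_two⟩
    obtain ⟨x, hx⟩ := exists_prime_orderOf_dvd_card' 2 h1
    refine invol_false hm hK h (s := x.1) ?_ x.2
    rw [← hx]
    exact orderOf_injective (fixA α).subtype (fixA α).subtype_injective x
  have h3G : 3 ∣ Nat.card ↥(Cfsg.Lie.twistedG2 K (3 ^ m)) := by
    rw [Cfsg.Agent.S1069.result hK, mul_assoc]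
    refine Dvd.dvd.mul_right ?_ _
    exact dvd_pow (dvd_pow_self 3 (by omega)) (by norm_num)
  obtain ⟨p, hp, hp3, hpα⟩ := h.exists_prime_ne Nat.prime_three h3G
  have hpf : Fact p.Prime := ⟨hp⟩
  obtain ⟨y, hyα, hyp⟩ := exists_prime_order hp hpα
  obtain ⟨g, τ, hy⟩ := exists_form hm hK y
  have hy1 : y ^ p = 1 := by rw [← hyp]; exact pow_orderOf_eq_one y
  have hyne : y ≠ 1 := by
    rintro rfl
    rw [orderOf_one] at hyp
    exact hp.one_lt.ne hyp
  have hτp : τ ^ p = 1 := by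
    apply tau_pow (m := m) hK (g := g)
    rw [← hy, hy1]
  by_cases hτ1 : τ = 1
  · -- `y` is inner
    rw [hτ1, map_one, mul_one] at hy
    have hgo : orderOf g = p := by
      apply orderOf_eq_prime
      · apply conj_inj hz
        rw [map_pow, ← hy, hy1, map_one]
      · rintro rfl
        rw [map_one] at hy
        exact hyne hy
    by_cases hp2 : p = 2
    · subst hp2
      apply hinv
      have hgα : α g = g := by
        apply fix_of_comm hz
        rw [← hy]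
        exact (Cfg.comm_zpowers hyα (mem_zpowers α)).symm
      rw [← hgo]
      have h4 : orderOf (⟨g, hgα⟩ : ↥(fixA α)) = orderOf g :=
        (orderOf_injective (fixA α).subtype (fixA α).subtype_injective ⟨g, hgα⟩).symm
      rw [← h4]
      exact orderOf_dvd_natCard _
    · have hp5 : 3 < p := by
        have := hp.two_le
        omega
      obtain ⟨P⟩ : Nonempty (Sylow p ↥(Cfsg.Lie.twistedG2 K (3 ^ m))) := inferInstance
      exact inner_false h P (Cfsg.Agent.S1156.result hm hK hp5 P) hgo (by rw [← hy]; exact hyα)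
  · have hτo : orderOf τ = p := orderOf_eq_prime hτp hτ1
    have hp2 : p ≠ 2 := by
      rintro rfl
      have h4 : orderOf τ ∣ Nat.card (K ≃+* K) := orderOf_dvd_natCard τ
      rw [hτo, hgal] at h4
      omega
    have hp5 : 3 < p := by
      have := hp.two_le
      omega
    have hout : Phi K m τ ∉ (MulAut.conj : ↥(Cfsg.Lie.twistedG2 K (3 ^ m)) →* _).range :=
      fun h4 => hτ1 (phi_range hK h4)
    obtain ⟨w, hw⟩ := conj_of_coset hp2 hz (fun P => Cfsg.Agent.S1156.result hm hK hp5 P)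
      (φ := Phi K m τ) (ψ := y) (by rw [← map_pow, hτp, map_one]) hy1 hout hy
      (fun h4 P => not_le_fix hK hp5 hτo h4 P)
    -- the centraliser of `y`
    have hns : ¬ Group.IsSolvable ↥(fixA y) := by
      intro hs
      apply fix_not_solvable hK τ
      let f : ↥(fixA (Phi K m τ)) →* ↥(fixA y) :=
        { toFun := fun x => ⟨w * x.1 * w⁻¹, by
            rw [mem_fixA, hw]
            show w * (Phi K m τ) ((MulAut.conj w)⁻¹ (w * x.1 * w⁻¹)) * w⁻¹ = w * x.1 * w⁻¹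
            rw [← map_inv MulAut.conj w, MulAut.conj_apply]
            have h5 : w⁻¹ * (w * x.1 * w⁻¹) * w⁻¹⁻¹ = x.1 := by group
            rw [h5, mem_fixA.1 x.2]⟩
          map_one' := by
            apply Subtype.ext
            show w * 1 * w⁻¹ = 1
            group
          map_mul' := by
            intro a b
            apply Subtype.ext
            show w * (a.1 * b.1) * w⁻¹ = (w * a.1 * w⁻¹) * (w * b.1 * w⁻¹)
            group }
      refine Group.isSolvable_of_isSolvable_injective (f := f) ?_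
      intro a b hab
      apply Subtype.ext
      have h5 : w * a.1 * w⁻¹ = w * b.1 * w⁻¹ := congrArg Subtype.val hab
      exact mul_left_cancel (mul_right_cancel h5)
    exact hinv (two_dvd_fix h hyα hyne hns)

end

/-- **The small Ree groups.** -/
theorem row_ree {G : Type u} [Group G] [Finite G] (h : Cfsg.Lie.IsoRee G) : Row G := by
  obtain ⟨K, iK, iK', m, hm, hK, ⟨e⟩⟩ := h
  exact Row.congr e (row_twistedG2 hm hK)

end Cfsg.Agent.H569.Ccp
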